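import Cfsg.Agent.H790.LB.PEM6
import Cfsg.Agent.H790.LB.PEM7
import Cfsg.Agent.H790.LB.BigCoCert

/-!
# The large table of `E₈`, parabolic `E₆` (nodes `0..5`), weight `ω₆ + ω₇` (helper790, for S4879; made by a program): the constituent `28`

13440 states, 79 classes. Program: `tools/h790_e28/emit.py`.
-/

set_option autoImplicit false
set_option maxRecDepth 20000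

namespace Cfsg.Agent.H790.LB.PE

open Cfsg.Agent.H967.Sph Cfsg.Agent.H64.Dl.Sph Cfsg.Agent.H996.Eight.Cert Cfsg.Agent.H996.PQ.Big
open Cfsg.Agent.H423.PQ

open Cfsg.Agent.H996.PQ.Kr (vz n1 dotZ dotN)

def nuL : List (List ℤ) := [[0, 0, 0, 0, 0, 0, 0, 0, 0, 0, 0, 0, 0, 0, 0, 0, 0, 0, 0, 0, 0, 0, 0, 0, 0, 0, 0, 0, 0, 0, 1, 1, 0, -1, 0, 1, 1], [0, 0, 0, 0, 0, 0, 0, 0, 0, 0, 0, 0, 0, 0, 0, 0, 0, 0, 0, 0, 0, 0, 0, 0, 0, 0, 0, 0, 0, -1, 0, 1, 1], [0, 0, 0, 0, 0, 0, 0, 0, 0, 0, 0, 0, 0, 0, 0, 0, 0, 0, 0, 0, 0, 0, 0, 0, 0, 0, 0, 0, 0, -1, -1, 0, 1, 0, -1, -1], [0, 0, 0, 0, 0, 0, 0, 0, 0, 0, 0, 0, 0, 0, 0, 0, 0, 0, 0, 0, 0, 0, 0, 0, 0, 0, 0, 0, 1, 0, -1, -1], [0, 0, 0, 0, 0, 0, 0, 0, 0, 0, 0, 0, 0, 0, 0, 0, 0, 0, 0, 0, 0, 0, 0,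 0, 0, 0, 0, 0, 1, 0, -1, -1], [0, 0, 0, 0, 0, 0, 0, 0, 0, 0, 0, 0, 0, 0, 0, 0, 0, 0, 0, 0, 0, 0, 0, 0, 0, 0, 0, -1, 0, 1, 1], [], [0, 0, 0, 0, 0, 0, 0, 0, 0, 0, 0, 0, 0, 0, 0, 0, 0, 0, 0, 0, 0, 0, 0, 0, 0, -1, -1, 0, 1], [0, 0, 0, 0, 0, 0, 0, 0, 0, 0, 0, 0, 0, 0, 0, 0, 0, 0, 0, 0, 0, 0, 0, 0, 1, 1, 0, -1], [0, 0, 0, 0, 0, 0, 0, 0, 0, 0, 0, 0, 0, 0, 0, 0, 0, 0, 0, 0, 0, 0, 0, 0, 1, 0, -1, -1], [0, 0, 0, 0, 0, 0, 0, 0, 0, 0, 0, 0, 0, 0, 0, 0, 0, 0, 0, 0, 0, 0, 0, 0, 1, 1, 0, -1], [0, 0, 0, 0, 0, 0, 0, 0, 0, 0, 0, 0, 0, 0, 0, 0, 0, 0, 0, 0, 0, 0, 0, -1, 0, 1, 1], [0, 0, 0, 0, 0, 0, 0, 0, 0, 0, 0, 0, 0, 0, 0, 0, 0, 0, 0, 0, 0, 0, 0, -1, 0, 1, 1], [0, 0, 0, 0, 0, 0, 0, 0, 0, 0, 0, 0, 0, 0, 0, 0, 0, 0, 0, 0, 0, 0, 0, -1, -1, 0,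 1], [0, 0, 0, 0, 0, 0, 0, 0, 0, 0, 0, 0, 0, 0, 0, 0, 0, 0, 0, 0, 0, 0, 1, 0, -1, -1], [], [], [], [], [0, 0, 0, 0, 0, 0, 0, 0, 0, 0, 0, 0, 0, 0, 0, 0, 0, 0, 0, -1, -1, 0, 1, 0, 0, 1, 1], [0, 0, 0, 0, 0, 0, 0, 0, 0, 0, 0, 0, 0, 0, 0, 0, 0, 0, 0, -1, -1, 0, 1, 1], [0, 0, 0, 0, 0, 0, 0, 0, 0, 0, 0, 0, 0, 0, 0, 0, 0, 0, 1, 1, 0, -1, 0, 0, -1, -1], [0, 0, 0, 0, 0, 0, 0, 0, 0, 0, 0, 0, 0, 0, 0, 0, 0, 0, 1, 1, 0, -1, -1], [0, 0, 0, 0, 0, 0, 0, 0, 0, 0, 0, 0, 0, 0, 0, 0, 0, 0, 1, 1, 0, -1, -1], [0, 0, 0, 0, 0, 0, 0, 0, 0, 0, 0, 0, 0, 0, 0, 0, 0, -1, -1, 0, 1, 1], [0, 0, 0, 0, 0, 0, 0, 0, 0, 0, 0, 0, 0, 0, 0, 0, 0, 0, 0, 0, 0, -1, -1, 0, 1, 0, -1, -1], [], [0, 0, 0, 0, 0, 0, 0, 0, 0, 0, 0, 0, 0, 0, 0, 0, 0, 0, 0, 0, 1, 1, 0, -1,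 0, 1, 1], [0, 0, 0, 0, 0, 0, 0, 0, 0, 0, 0, 0, 0, 0, 0, 0, 0, 0, 0, 0, 1, 0, -1, -1], [0, 0, 0, 0, 0, 0, 0, 0, 0, 0, 0, 0, 0, 0, 0, 0, 0, 0, 0, 0, 1, 0, -1, -1], [0, 0, 0, 0, 0, 0, 0, 0, 0, 0, 0, 0, 0, 0, 0, 0, 0, 0, 0, 0, 1, 1, 0, -1, 0, 1, 1], [0, 0, 0, 0, 0, 0, 0, 0, 0, 0, 0, 0, 0, 0, 0, 0, 0, 0, 0, -1, 0, 1, 1], [0, 0, 0, 0, 0, 0, 0, 0, 0, 0, 0, 0, 0, 0, 0, 0, 0, 0, 0, -1], [0, 0, 0, 0, 0, 0, 0, 0, 0, 0, 0, 0, 0, 0, 0, 0, 0, 0, 0, -1, 0, 1, 1], [0, 0, 0, 0, 0, 0, 0, 0, 0, 0, 0, 0, 0, 0, 0, 0, 0, 0, 0, -1, 0, 1, 1], [0, 0, 0, 0, 0, 0, 0, 0, 0, 0, 0, 0, 0, 0, 0, 0, 0, 0, 0, -1, -1, 0, 1, 0, -1, -1], [0, 0, 0, 0, 0, 0, 0, 0, 0, 0, 0, 0, 0, 0, 0, 0, 0, 0, 0, -1, 0, 1, 1], [0, 0, 0, 0, 0, 0, 0, 0, 0, 0, 0, 0, 0, 0, 0, 0,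 0, 0, 1], [0, 0, 0, 0, 0, 0, 0, 0, 0, 0, 0, 0, 0, 0, 0, 0, 0, 0, 1, 0, -1, -1], [0, 0, 0, 0, 0, 0, 0, 0, 0, 0, 0, 0, 0, 0, 0, 0, 0, 0, 1], [0, 0, 0, 0, 0, 0, 0, 0, 0, 0, 0, 0, 0, 0, 0, 0, 0, 0, 1, 0, -1, -1], [0, 0, 0, 0, 0, 0, 0, 0, 0, 0, 0, 0, 0, 0, 0, 0, 0, -1], [0, 0, 0, 0, 0, 0, 0, 0, 0, 0, 0, 0, 0, 0, 0, 1, 1, 0, -1, -1], [0, 0, 0, 0, 0, 0, 0, 0, 0, 0, 0, 0, 0, 0, -1, -1, 0, 1, 1], [0, 0, 0, 0, 0, 0, 0, 0, 0, 0, 0, 0, 0, 0, -1, -1, 0, 1, 1], [0, 0, 0, 0, 0, 0, 0, 0, 0, 0, 0, 0, 0, 1, 1, 0, -1, -1], [0, 0, 0, 0, 0, 0, 0, 0, 0, 0, 0, 0, 0, 0, 0, -1, -1, 0, 1], [0, 0, 0, 0, 0, 0, 0, 0, 0, 0, 0, 0, 0, 0, 0, -1, -1, 0, 1], [0, 0, 0, 0, 0, 0, 0, 0, 0, 0, 0, 0, 0, 0, 1, 1, 0, -1], [0, 0, 0, 0, 0, 0, 0, 0, 0, 0, 0, 0, 0, 0,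 1, 1, 0, -1], [0, 0, 0, 0, 0, 0, 0, 0, 0, 0, 0, 0, 0, 0, 1, 1, 0, -1], [0, 0, 0, 0, 0, 0, 0, 0, 0, 0, 0, 0, 0, 0, 1, 1, 0, -1], [], [], [0, 0, 0, 0, 0, 0, 0, 0, 0, 0, 0, 0, 0, -1, -1, 0, 1], [0, 0, 0, 0, 0, 0, 0, 0, 0, 0, 0, 0, 0, -1, -1, 0, 1], [], [], [0, 0, 0, 0, 0, 0, 0, 0, 0, 0, 0, -1, -1, 0, 0, -1, 0, 1, 1], [0, 0, 0, 0, 0, 0, 0, 0, 0, 0, 0, -1, -1, 0, 1], [0, 0, 0, 0, 0, 0, 0, 0, 0, 0, 1, 1, 0, 0, 1, 0, -1, -1], [0, 0, 0, 0, 0, 0, 0, 0, 0, 0, 1, 1, 0, -1], [0, 0, 0, 0, 0, 0, 0, 0, 0, 0, 1, 1, 0, -1], [0, 0, 0, 0, 0, 0, 0, 0, 0, -1, -1, 0, 1], [], [0, 0, 0, 0, 0, 0, 0, 0, 0, 0, 0, -1, -1, 0, 1, 0, -1, -1], [0, 0, 0, 0, 0, 0, 0, 0, 0, 0, 1, 1, 0, -1, 0, 1, 1], [0, 0, 0, 0, 0, 0, 0, 0, 0, 0, 1, 0, -1, -1], [0, 0, 0,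 0, 0, 0, 0, 0, 0, 0, 1, 1, 0, -1, 0, 1, 1], [0, 0, 0, 0, 0, 0, 0, 0, 0, -1, 0, 1, 1], [0, 0, 0, 0, 0, 0, 0, 0, 0, -1, 0, 1, 1], [0, 0, 0, 0, 0, 0, 0, 0, 0, -1, -1, 0, 1, 0, -1, -1], [0, 0, 0, 0, 0, 0, 0, 0, 1, 0, -1, -1], [0, 0, 0, 0, 0, 0, 1, 1, 0, -1], [0, 0, 0, 0, 0, -1, -1, 0, 1], [0, 0, 0, 0, 0, -1, -1, 0, 1], [0, 0, 0, 0, 1, 1, 0, -1], [0, -1, -1, 0, 1, 0, -1, -1], [1, 1, 0, -1, 0, 1, 1]]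

/-- the numerators of the spherical function -/
def nu (c : Fin 79) : List ℤ := nuL.getD c []

def ordL : List ℕ := [0, 2, 1, 8, 4, 9, 10, 3, 11, 21, 5, 32, 22, 12, 33, 13, 23, 34, 14, 61, 57, 62, 67, 58, 68, 6, 15, 16, 35, 24, 7, 26, 43, 36, 25, 17, 37, 51, 38, 44, 28, 52, 76, 71, 77, 72, 27, 59, 39, 69, 60, 29, 18, 78, 70, 40, 75, 19, 73, 63, 74, 65, 64, 66, 20, 30, 41, 53, 31, 45, 54, 42, 47, 55, 46, 56, 48, 49, 50]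

/-- the order of the propagation -/
def ordN (u : ℕ) : ℕ := ordL.getD u 0

def ndL : List ℕ := [7, 6, 7, 7, 6, 7, 7, 6, 7, 6, 6, 7, 6, 7, 7, 7, 6, 7, 7, 6, 6, 6, 7, 6, 7, 6, 7, 7, 7, 6, 6, 6, 6, 7, 6, 7, 7, 7, 7, 6, 6, 7, 7, 6, 7, 6, 6, 6, 7, 7, 6, 6, 7, 7, 7, 7, 6, 7, 6, 6, 6, 6, 6, 6, 7, 6, 7, 7, 6, 6, 7, 7, 6, 7, 6, 7, 6, 6, 6]

def nd (u : Fin 79) : Fin 8 := Fin.ofNat 8 (ndL.getD u 0)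

def rowL : List ℕ := [0, 0, 0, 3, 2, 5, 6, 1, 8, 3, 4, 11, 5, 13, 14, 15, 6, 17, 18, 47, 15, 50, 22, 18, 24, 7, 26, 27, 28, 9, 10, 27, 28, 33, 12, 35, 36, 37, 38, 36, 35, 41, 42, 37, 44, 41, 31, 32, 48, 49, 39, 40, 52, 53, 54, 55, 49, 57, 43, 67, 45, 73, 70, 75, 64, 46, 66, 67, 51, 66, 70, 71, 71, 73, 69, 75, 72, 74, 76]

def row (u : Fin 79) : Fin 79 := Fin.ofNat 79 (rowL.getD u 0)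

def witL : List ℕ := [0, 9991, 9991, 0, 4391, 0, 5308, 11659, 0, 2979, 10136, 0, 4536, 0, 0, 4898, 8378, 0, 4813, 13384, 7898, 13328, 0, 7466, 0, 13296, 4713, 0, 0, 10281, 13323, 106, 10027, 0, 11794, 0, 0, 0, 0, 11540, 50, 0, 0, 869, 0, 599, 4427, 13301, 0, 0, 13274, 2860, 4705, 0, 0, 0, 1, 4704, 4352, 12592, 2353, 8784, 12322, 10351, 4706, 11793, 0, 0, 10280, 5, 0, 0, 61, 0, 888, 0, 618, 4366, 2367]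

def wit (u : Fin 79) : Fin 13440 := Fin.ofNat 13440 (witL.getD u 0)

/-- the degree, twice -/
def dn : List ℤ := [0, 0, 0, 1, -1, 1, -1, 1, 0, 2, -2, 2, -1, 3, -1, 4, -4, 4, -1, 5, -2, 6, -5, 6, -1, 7, -4, 7, -5, 7, 0, 7, -5, 7, -4, 7, -1, 6, -5, 6, -2, 5, -1, 4, -4, 4, -1, 3, -1, 2, -2, 2, 0, 1, -1, 1, -1, 1]

def ff (i : Fin 8) : List ℤ := if i = 6 then [1, 1, 1, 1, 2, 2, 2, 2, 3, 2, 2, 2, 2, 1, 1, 1, 1] else [1]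

def th (i : Fin 8) : List ℤ := if i = 6 then [-1, 0, 0, 0, 0, 1, 1, 1, 1, 2, 1, 1, 1, 1] else [-1]

theorem cls_o : t.cls t.o = 0 := by
  show B.cls (Fin.ofNat 13440 B.o) = 0
  decide +kernel

theorem hE6 : ∀ r : Fin 79, vz (2 ^ 64) (ff 6) * dotZ (2 ^ 64) (mat6 r) nu =
    vz (2 ^ 64) (th 6) * (vz (2 ^ 64) (kk r) * vz (2 ^ 64) (nu r)) ∧
    n1 (ff 6) * dotN (mat6 r) nu + n1 (th 6) * (n1 (kk r) * n1 (nu r)) < 2 ^ 64 := by decide +kernel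

theorem hE7 : ∀ r : Fin 79, vz (2 ^ 64) (ff 7) * dotZ (2 ^ 64) (mat7 r) nu =
    vz (2 ^ 64) (th 7) * (vz (2 ^ 64) (kk r) * vz (2 ^ 64) (nu r)) ∧
    n1 (ff 7) * dotN (mat7 r) nu + n1 (th 7) * (n1 (kk r) * n1 (nu r)) < 2 ^ 64 := by decide +kernel

theorem hD1 : vz (2 ^ 64) dn * (List.finRange 79).foldr (fun c a => vz (2 ^ 64) (kk c) *
      (vz (2 ^ 64) (nu c) * vz (2 ^ 64) (nu c)) + a) 0 =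
    (2 : ℕ) * (vz (2 ^ 64) (nu 0) * vz (2 ^ 64) (nu 0) *
      (List.finRange 79).foldr (fun c a => vz (2 ^ 64) (kk c) + a) 0) := by decide +kernel

theorem hD2 : n1 dn * (List.finRange 79).foldr (fun c a => n1 (kk c) * (n1 (nu c) * n1 (nu c)) + a) 0 +
    2 * (n1 (nu 0) * n1 (nu 0) * (List.finRange 79).foldr (fun c a => n1 (kk c) + a) 0) < 2 ^ 64 := by
  decide +kernel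

theorem hTri : ∀ u : Fin 79, u ≠ 0 → (nd u = 6 ∧ cTri 79 T6 ordN (row u) u = true) ∨
    (nd u = 7 ∧ cTri 79 T7 ordN (row u) u = true) := by decide +kernel

theorem hWit : ∀ u : Fin 79, u ≠ 0 → (ordN (row u) < ordN u ∧ B.cls (wit u) = row u ∧
    B.cls (B.st (nd u) (wit u)) = u) ∨ (row u = u ∧ pPos (pNeg (th (nd u))) = true) := by decide +kernel

theorem hUU (u : Fin 79) (hu : u ≠ 0) (s : Fin 13440) (hs : B.cls s = row u) :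
    ordN (B.cls (B.st (nd u) s)) < ordN u ∨ B.cls (B.st (nd u) s) = u := by
  rcases hTri u hu with ⟨h1, h2⟩ | ⟨h1, h2⟩
  · rw [h1]
    have h3 := chkU_of (ord := ordN) (j := 6) (r := row u) (u := u) okB hZ6 h2 s hs
    exact h3
  · rw [h1]
    have h3 := chkU_of (ord := ordN) (j := 7) (r := row u) (u := u) okB hZ7 h2 s hs
    exact h3

end Cfsg.Agent.H790.LB.PE
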